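import Groth.Agent.LaurentCancelLib.Basic

set_option autoImplicit false
universe u
open Polynomial TensorProduct

namespace Groth.Agent.MonicCancelLib

theorem of_lift {A : Type u} [CommRing A] {At : Type u} [CommRing At] [Algebra A[X] At]
    (M : Submonoid A[X]) [IsLocalization M At] [Algebra A At] [IsScalarTower A A[X] At]
    {L : Type u} [CommRing L] [Algebra A L] (eL : L ≃ₐ[A] LaurentSeries A) (φ : A[X] →ₐ[A] L)
    (hunit : ∀ f : M, IsUnit (φ f))
    {P P' : Type u} [AddCommGroup P] [Module A P] [Module.Finite A P] [Module.Projective A P]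
    [AddCommGroup P'] [Module A P'] [Module.Finite A P'] [Module.Projective A P']
    (e : (At ⊗[A] P) ≃ₗ[At] (At ⊗[A] P')) : Nonempty (P ≃ₗ[A] P') := by
  letI : Algebra At L := (IsLocalization.lift hunit : At →+* L).toAlgebra
  haveI : IsScalarTower A At L := IsScalarTower.of_algebraMap_eq (R := A) (S := At) (A := L) fun a => by
    rw [IsScalarTower.algebraMap_apply A A[X] At]
    exact ((IsLocalization.lift_eq (S := At) hunit _).trans (φ.commutes a)).symm
  exact LaurentCancelLib.nonempty_linearEquiv eL
    ((TensorProduct.AlgebraTensorModule.cancelBaseChange A At L L P).symm ≪≫ₗ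
      (TensorProduct.AlgebraTensorModule.congr (LinearEquiv.refl L L) e) ≪≫ₗ
      TensorProduct.AlgebraTensorModule.cancelBaseChange A At L L P')

theorem isUnit_eval_of_monic {A : Type u} [CommRing A] (f : A[X]) (hmon : f.Monic) :
    IsUnit (Polynomial.eval₂ (algebraMap A (LaurentSeries A)) (HahnSeries.single (-1 : ℤ) (1 : A)) f) := by
  let t : LaurentSeries A := HahnSeries.single 1 1
  let ti : LaurentSeries A := HahnSeries.single (-1) 1
  have h1 : ti * t = 1 := by
    simp only [ti, t, HahnSeries.single_mul_single, mul_one, neg_add_cancel]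
    rfl
  letI : Invertible ti := ⟨t, by rw [mul_comm]; exact h1, h1⟩
  have hx : IsUnit ti := isUnit_of_invertible ti
  rw [← Polynomial.eval₂_reverse_mul_pow (algebraMap A (LaurentSeries A)) ti f]
  refine IsUnit.mul ?_ (hx.pow _)
  have : Polynomial.eval₂ (algebraMap A (LaurentSeries A)) (⅟ti) f.reverse =
      HahnSeries.ofPowerSeries ℤ A (f.reverse : PowerSeries A) := by
    change Polynomial.eval₂ (algebraMap A (LaurentSeries A)) t f.reverse =
      ((HahnSeries.ofPowerSeries ℤ A).comp Polynomial.coeToPowerSeries.ringHom) f.reverse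
    rw [← Polynomial.coe_eval₂RingHom]
    congr 1
    refine Polynomial.ringHom_ext (fun a => ?_) ?_
    · simp [HahnSeries.algebraMap_apply']
    · simp [t]
  rw [this]
  refine IsUnit.map _ ?_
  rw [PowerSeries.isUnit_iff_constantCoeff, Polynomial.constantCoeff_coe, Polynomial.coeff_zero_reverse,
    hmon.leadingCoeff]
  exact isUnit_one

end Groth.Agent.MonicCancelLib
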